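import Cfsg.Agent.HZ.Fin
import Cfsg.Agent.HZ.Spor.Main

/-!
# HZ: the box `BoxN` (helper17)
-/

set_option autoImplicit false

namespace Cfsg.Agent.HZ

open Cfsg

universe u

theorem boxN : BoxN := boxN_of Spor.spor

theorem hh_of_boxL (hL : BoxL) {M : Ideal AlgInt} (hM : IsPModular 2 M) (G : Type u) [Group G] [Finite G] : HH M G :=
  hh_all boxN hL hM G

end Cfsg.Agent.HZ
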