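import Cfsg.Agent.ODD.Defs

/-!
# HZ (S4909): the rows and the box (helper17)

* `Good M χ y` : the value and the central character of `χ` at `y` are units; `H0 M χ` : there is a good element
  (for an irreducible character this says that the height is zero, `HZ/Basic.lean`);
* `HH M G` : a character of height zero which is fixed by one `σ` with `Two σ`, `σ i = -i` is `2`-rational;
  `HF M X` : the same for faithful characters; `IH M n` : `HH` for all groups whose centre has index `< n`;
* `Row K`, `Box`.
-/

set_option autoImplicit false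

namespace Cfsg.Agent.HZ

open Cfsg Cfsg.Agent.ODD Cfsg.Agent.ODD.Red

universe u

/-- the value and the central character at `y` are units -/
def Good (M : Ideal AlgInt) {G : Type u} [Group G] (χ : G → ℂ) (y : G) : Prop :=
  ¬ MemLocalIdeal M (χ y) ∧ ¬ MemLocalIdeal M (centralChar χ y)

/-- height zero -/
def H0 (M : Ideal AlgInt) {G : Type u} [Group G] (χ : G → ℂ) : Prop := ∃ y, Good M χ y

/-- `σ` fixes the roots of unity of odd order and moves `i` -/
def Sg (σ : ℂ ≃+* ℂ) : Prop := Two σ ∧ σ Complex.I = -Complex.I

/-- the statement for one group -/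
def HH (M : Ideal AlgInt) (G : Type u) [Group G] : Prop :=
  ∀ χ : G → ℂ, IsIrrCharacter G χ → H0 M χ → ∀ σ, Sg σ → Fix σ χ → Rat2 χ

/-- the statement for the faithful characters of one group -/
def HF (M : Ideal AlgInt) (G : Type u) [Group G] : Prop :=
  ∀ χ : G → ℂ, IsIrrCharacter G χ → (∀ g, χ g = χ 1 → g = 1) → H0 M χ → ∀ σ, Sg σ → Fix σ χ → Rat2 χ

/-- the induction hypothesis -/
def IH (M : Ideal AlgInt) (n : ℕ) : Prop :=
  ∀ (L : Type) [Group L] [Finite L], (Subgroup.center L).index < n → HH M L

/-- all covers of the family have `HF`; the induction hypothesis is available below the order of the simple group -/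
def Row (K : Fam) : Prop :=
  ∀ M : Ideal AlgInt, IsPModular 2 M → ∀ (X : Type) [Group X] [Finite X], IsQuasisimple X →
    K (X ⧸ Subgroup.center X) → IH M (Subgroup.center X).index → HF M X

theorem HH.hf {M : Ideal AlgInt} {G : Type u} [Group G] (h : HH M G) : HF M G := fun χ h1 _ => h χ h1

/-- the rows which need no Deligne-Lusztig theory -/
structure BoxN : Prop where
  alt : Row fun S _ => IsAlternating S
  two : Row fun S _ => IsLieTypeChar 2 S
  ree : Row fun S _ => Lie.IsoRee S
  tits : Row fun S _ => Lie.IsoTits S
  spor : Row fun S _ => IsSporadicGroup S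

/-- the rows of Lie type in odd characteristic -/
structure BoxL : Prop where
  psl : Row PslO
  psu : Row PsuO
  psp : Row PspO
  podd : Row fun S _ => IsPOmegaOdd S
  plus : Row PlusO
  minus : Row MinusO
  g2 : Row (ChevO Lie.chevG2)
  f4 : Row (ChevO Lie.chevF4)
  e6 : Row (ChevO Lie.chevE6)
  e7 : Row (ChevO Lie.chevE7)
  e8 : Row (ChevO Lie.chevE8)
  tw : Row TwE6O
  d4 : Row TwD4O

/-- all known simple groups -/
theorem row_known (hN : BoxN) (hL : BoxL) : Row fun S _ => IsKnownSimple' S := by
  intro M hM X _ _ hX h ih
  rcases known_cases h with h | h | h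
  · exact absurd h not_prime
  · rcases h with h | h | h | h | h | h | h | h | h | h | h | h | h
    · exact hN.alt M hM X hX h ih
    · exact hN.two M hM X hX h ih
    · exact hL.psp M hM X hX h ih
    · exact hL.podd M hM X hX h ih
    · exact hL.plus M hM X hX h ih
    · exact hL.minus M hM X hX h ih
    · exact hL.g2 M hM X hX h ih
    · exact hL.f4 M hM X hX h ih
    · exact hL.e7 M hM X hX h ih
    · exact hL.e8 M hM X hX h ih
    · exact hL.d4 M hM X hX h ih
    · exact hN.ree M hM X hX h ih
    · exact hN.spor M hM X hX h ih
  · rcases h with h | h | h | h | h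
    · exact hL.psl M hM X hX h ih
    · exact hL.psu M hM X hX h ih
    · exact hL.e6 M hM X hX h ih
    · exact hL.tw M hM X hX h ih
    · exact hN.tits M hM X hX h ih

end Cfsg.Agent.HZ
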