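import Cfsg.Agent.HZ.Basic
import Cfsg.Agent.ODD.Alt.Rat

/-!
# HZ: elementary abelian Sylow `2`-subgroups, the small Ree groups (helper17)
-/

set_option autoImplicit false

namespace Cfsg.Agent.HZ

open Cfsg Subgroup Cfsg.Agent.ODD.Red

universe u

/-- no elements of order four in the central quotient -/
theorem hf_of_sq {M : Ideal AlgInt} (hM : IsPModular 2 M) {X : Type u} [Group X] [Finite X]
    (h : ∀ x : X ⧸ center X, x ^ 4 = 1 → x * x = 1) : HF M X := by
  rintro χ hχ hf ⟨y, hy⟩ σ hσ hfix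
  have key : ∀ (k : ℕ) (x : X ⧸ center X), x ^ 2 ^ k = 1 → x ^ 2 = 1 := by
    intro k
    induction k with
    | zero => intro x hx; rw [pow_zero, pow_one] at hx; rw [hx, one_pow]
    | succ k ih =>
      intro x hx
      rw [sq]
      exact h x (by rw [show 4 = 2 * 2 by norm_num, pow_mul, ih (x ^ 2) (by rw [← pow_mul, ← pow_succ', hx])])
  refine rat2_of_four hM hχ hy (fun u _ ⟨k, hk⟩ => ?_) hσ hfix
  have h1 : u ^ 2 ^ k = 1 := by rw [← hk, pow_orderOf_eq_one]
  have h2 : u ^ 2 ∈ center X := by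
    rw [← QuotientGroup.eq_one_iff, QuotientGroup.mk_pow]
    exact key k _ (by rw [← QuotientGroup.mk_pow, h1, QuotientGroup.mk_one])
  rw [show 4 = 2 * 2 by norm_num, pow_mul]
  exact central_sq hχ hf hσ hfix h2 (a := k) (by rw [← pow_mul, mul_comm, pow_mul, h1, one_pow])

/-- `BoxN.ree` -/
theorem rowRee : Row fun S _ => Lie.IsoRee S := fun _ hM _ _ _ _ h _ => hf_of_sq hM (ODD.Alt.sq_of_ree h)

end Cfsg.Agent.HZ
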