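import Cfsg.Agent.HZ.Red.All
import Cfsg.Agent.HZ.Ree
import Cfsg.Agent.HZ.Alt.Main
import Cfsg.Agent.HZ.Two.Row

/-!
# HZ: the box `BoxN` from the sporadic row (helper17)
-/

set_option autoImplicit false

namespace Cfsg.Agent.HZ

open Cfsg

theorem boxN_of (h : Row fun S _ => IsSporadicGroup S) : BoxN := ⟨Alt.rowAlt, Two.two, rowRee, Two.tits, h⟩

end Cfsg.Agent.HZ
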