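import Cfsg.Agent.HZ.Basic
import Cfsg.Agent.ODD.Fin.Main

/-!
# HZ: characters of odd degree, blocks of maximal defect (helper17)
-/

set_option autoImplicit false

namespace Cfsg.Agent.HZ

open Cfsg Subgroup Cfsg.Agent.ODD.Red

universe u

variable {M : Ideal AlgInt} {G : Type u} [Group G] [Finite G] {χ : G → ℂ}

theorem rat2_of_oddDeg (hχ : IsIrrCharacter G χ) (ho : Odd (charDegree χ)) {σ : ℂ ≃+* ℂ} (hσ : Sg σ) (hfix : Fix σ χ) :
    Rat2 χ := rat2_of_fix ODD.Fin.qa hχ ho hσ.2 hfix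

/-- blocks of maximal defect -/
theorem Good.rat2_of_odd_index (hM : IsPModular 2 M) (hχ : IsIrrCharacter G χ) {y : G} (hy : Good M χ y)
    (h : Odd (centralizer ({y} : Set G)).index) {σ : ℂ ≃+* ℂ} (hσ : Sg σ) (hfix : Fix σ χ) : Rat2 χ :=
  rat2_of_oddDeg hχ (hy.odd_deg hM hχ h) hσ hfix

end Cfsg.Agent.HZ
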