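import Cfsg.Agent.HZ.Defs
import Cfsg.Agent.Blocks.LocalRing

/-!
# HZ: the unit lemma (helper17)

`exists_two_pow` : automorphisms with `Two` and a prescribed action on the roots of unity of order `2 ^ a`;
`unit_fix` : a cyclotomic integer which is a unit, an eigenvector of the inertia group and fixed by `σ` is fixed.
-/

set_option autoImplicit false

namespace Cfsg.Agent.HZ

open Cfsg Cfsg.Agent.ODD.Red Cfsg.Agent.Characters Cfsg.Agent.Blocks.LocalRing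

theorem exists_level (a : ℕ) {m k : ℕ} (hm : Odd m) (hk : Odd k) :
    ∃ σ : ℂ ≃+* ℂ, (∀ z : ℂ, z ^ m = 1 → σ z = z) ∧ ∀ z : ℂ, z ^ 2 ^ a = 1 → σ z = z ^ k := by
  have hcop : (2 ^ (a + 1)).Coprime m := Nat.Coprime.pow_left _ (Nat.coprime_two_left.2 hm)
  obtain ⟨j, hj1, hj2⟩ := Nat.chineseRemainder hcop k 1
  have hj : j.Coprime (2 ^ a * m) := by
    refine Nat.Coprime.mul_right ?_ ?_
    · refine Nat.Coprime.pow_right _ (Nat.coprime_two_right.2 ?_)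
      have h1 : j ≡ k [MOD 2] := hj1.of_dvd (dvd_pow_self 2 (Nat.succ_ne_zero a))
      rw [Nat.odd_iff] at hk ⊢
      exact Eq.trans h1 hk
    · rw [Nat.Coprime, hj2.gcd_eq]
      exact Nat.gcd_one_left m
  obtain ⟨σ, hσ⟩ := GaloisBasic.exists_ringEquiv_pow (n := 2 ^ a * m)
    (mul_ne_zero (pow_ne_zero _ two_ne_zero) hm.pos.ne') hj
  refine ⟨σ, fun x hx => ?_, fun z hz => ?_⟩
  · rw [hσ x (by rw [mul_comm, pow_mul, hx, one_pow]), pow_eq_pow_of_modEq hj2 hx, pow_one]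
  · rw [hσ z (by rw [pow_mul, hz, one_pow])]
    exact pow_eq_pow_of_modEq (hj1.of_dvd (pow_dvd_pow 2 a.le_succ)) hz

/-- the inertia group acts on the roots of unity of order `2 ^ a` by all odd exponents -/
theorem exists_two_pow (a : ℕ) {k : ℕ} (hk : Odd k) :
    ∃ τ : ℂ ≃+* ℂ, Two τ ∧ ∀ z : ℂ, z ^ 2 ^ a = 1 → τ z = z ^ k := by
  classical
  have hn : (2 ^ a : ℕ) ≠ 0 := pow_ne_zero _ two_ne_zero
  have : NeZero (2 ^ a : ℕ) := ⟨hn⟩
  obtain ⟨ζ, hζ⟩ : ∃ ζ : ℂ, IsPrimitiveRoot ζ (2 ^ a) := ⟨_, Complex.isPrimitiveRoot_exp _ hn⟩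
  -- the orbit of `ζ`
  let O : Finset ℂ := ((Finset.range (2 ^ a)).image fun j => ζ ^ j).filter fun w => ∃ τ : ℂ ≃+* ℂ, Two τ ∧ τ ζ = w
  have hO : ∀ w, w ∈ O ↔ ∃ τ : ℂ ≃+* ℂ, Two τ ∧ τ ζ = w := by
    intro w
    refine ⟨fun h => (Finset.mem_filter.1 h).2, fun h => Finset.mem_filter.2 ⟨?_, h⟩⟩
    obtain ⟨τ, -, rfl⟩ := h
    obtain ⟨i, hi, h1⟩ := hζ.eq_pow_of_pow_eq_one (ξ := τ ζ) (by rw [← map_pow, hζ.pow_eq_one, map_one])
    exact Finset.mem_image.2 ⟨i, Finset.mem_range.2 hi, h1⟩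
  let P : Polynomial ℂ := ∏ w ∈ O, (Polynomial.X - Polynomial.C w)
  have hmap : ∀ ρ : ℂ ≃+* ℂ, P.map (ρ : ℂ →+* ℂ) = ∏ w ∈ O, (Polynomial.X - Polynomial.C (ρ w)) := by
    intro ρ
    rw [Polynomial.map_prod]
    refine Finset.prod_congr rfl fun w _ => ?_
    rw [Polynomial.map_sub, Polynomial.map_X, Polynomial.map_C]
    rfl
  have hfix : ∀ τ : ℂ ≃+* ℂ, Two τ → P.map (τ : ℂ →+* ℂ) = P := by
    intro τ hτ
    rw [hmap]
    refine Finset.prod_bij (fun w _ => τ w) (fun w hw => ?_) (fun _ _ _ _ h => τ.injective h) (fun w hw => ?_)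
      fun _ _ => rfl
    · obtain ⟨ρ, h1, rfl⟩ := (hO w).1 hw
      exact (hO _).2 ⟨τ * ρ, hτ.mul h1, rfl⟩
    · obtain ⟨ρ, h1, rfl⟩ := (hO w).1 hw
      exact ⟨τ.symm (ρ ζ), (hO _).2 ⟨ρ.trans τ.symm, h1.trans hτ.symm, rfl⟩, τ.apply_symm_apply _⟩
  have halg : ∀ i, IsAlgebraic ℚ (P.coeff i) := by
    intro i
    have h1 : P ∈ Polynomial.lifts (algebraMap (algebraicClosure ℚ ℂ) ℂ) := by
      refine Subsemiring.prod_mem _ fun w hw => ?_
      obtain ⟨τ, -, rfl⟩ := (hO w).1 hw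
      have h2 : τ ζ ∈ algebraicClosure ℚ ℂ := mem_algebraicClosure_iff.2
        (isAlgebraic_of_pow_eq_one hn (by rw [← map_pow, hζ.pow_eq_one, map_one]))
      refine ⟨Polynomial.X - Polynomial.C (⟨_, h2⟩ : algebraicClosure ℚ ℂ), ?_⟩
      show Polynomial.map _ _ = _
      rw [Polynomial.map_sub, Polynomial.map_X, Polynomial.map_C]
      rfl
    obtain ⟨x, hx⟩ := (Polynomial.lifts_iff_coeff_lifts P).1 h1 i
    rw [← hx]
    exact mem_algebraicClosure_iff.1 x.2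
  obtain ⟨m, hm, hmem⟩ := Rat2.rat2F (G := Fin (P.natDegree + 1)) (χ := fun i => P.coeff i) (fun i => halg i)
    fun τ hτ i => by
      have h1 := congrArg (fun Q : Polynomial ℂ => Q.coeff i) (hfix τ hτ)
      simpa using h1
  obtain ⟨ρ, h1, h2⟩ := exists_level a hm hk
  have h3 : P.map (ρ : ℂ →+* ℂ) = P := by
    ext i
    rw [Polynomial.coeff_map]
    by_cases hi : i < P.natDegree + 1
    · exact (mem_cyc_iff hm.pos.ne' (halg i)).1 (hmem ⟨i, hi⟩) ρ h1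
    · rw [Polynomial.coeff_eq_zero_of_natDegree_lt (by omega), map_zero]
  have h4 : P.eval (ρ ζ) = 0 := by
    rw [← h3, hmap, Polynomial.eval_prod]
    exact Finset.prod_eq_zero ((hO ζ).2 ⟨_, Two.refl, rfl⟩) (by simp)
  rw [Polynomial.eval_prod, Finset.prod_eq_zero_iff] at h4
  obtain ⟨w, hw, h5⟩ := h4
  obtain ⟨τ, hτ, rfl⟩ := (hO w).1 hw
  have h6 : τ ζ = ζ ^ k := by
    rw [← h2 ζ hζ.pow_eq_one]
    have h7 : ρ ζ - τ ζ = 0 := by simpa using h5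
    exact (sub_eq_zero.1 h7).symm
  refine ⟨τ, hτ, fun z hz => ?_⟩
  obtain ⟨i, -, rfl⟩ := hζ.eq_pow_of_pow_eq_one hz
  rw [map_pow, h6, ← pow_mul, ← pow_mul, mul_comm]

/-- the ring generated by the roots of unity of odd order and of order dividing `2 ^ a` -/
def Cy (a : ℕ) : Subring ℂ := Subring.closure ({z | ∃ m, Odd m ∧ z ^ m = 1} ∪ {z | z ^ 2 ^ a = 1})

theorem Cy.fix {a : ℕ} {τ : ℂ ≃+* ℂ} (hτ : Two τ) (h : ∀ z : ℂ, z ^ 2 ^ a = 1 → τ z = z) {x : ℂ} (hx : x ∈ Cy a) :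
    τ x = x := by
  induction hx using Subring.closure_induction with
  | mem x hx =>
    rcases hx with ⟨m, hm, hx⟩ | hx
    · exact hτ m x hm hx
    · exact h x hx
  | zero => exact map_zero _
  | one => exact map_one _
  | add x y _ _ hx hy => rw [map_add, hx, hy]
  | neg x _ hx => rw [map_neg, hx]
  | mul x y _ _ hx hy => rw [map_mul, hx, hy]

theorem Cy.isIntegral {a : ℕ} {x : ℂ} (hx : x ∈ Cy a) : IsIntegral ℤ x := by
  have h1 : ∀ (n : ℕ) (z : ℂ), n ≠ 0 → z ^ n = 1 → IsIntegral ℤ z := fun n z hn hz =>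
    IsIntegral.of_pow (Nat.pos_of_ne_zero hn) (hz ▸ isIntegral_one)
  induction hx using Subring.closure_induction with
  | mem x hx =>
    rcases hx with ⟨m, hm, hx⟩ | hx
    · exact h1 m x hm.pos.ne' hx
    · exact h1 _ x (pow_ne_zero _ two_ne_zero) hx
  | zero => exact isIntegral_zero
  | one => exact isIntegral_one
  | add x y _ _ hx hy => exact hx.add hy
  | neg x _ hx => exact hx.neg
  | mul x y _ _ hx hy => exact hx.mul hy

theorem Cy.mono {a b : ℕ} (h : a ≤ b) : Cy a ≤ Cy b := by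
  refine Subring.closure_mono (Set.union_subset_union_right _ fun z hz => ?_)
  obtain ⟨c, rfl⟩ := Nat.exists_eq_add_of_le h
  have h1 : z ^ 2 ^ a = 1 := hz
  show z ^ 2 ^ (a + c) = 1
  rw [pow_add, pow_mul, h1, one_pow]

theorem Cy.split {a : ℕ} {ζ : ℂ} (hζ : IsPrimitiveRoot ζ (2 ^ (a + 1))) {x : ℂ} (hx : x ∈ Cy (a + 1)) :
    ∃ A ∈ Cy a, ∃ B ∈ Cy a, x = A + ζ * B := by
  have : NeZero (2 ^ (a + 1) : ℕ) := ⟨pow_ne_zero _ two_ne_zero⟩
  have h2 : ζ ^ 2 ∈ Cy a := Subring.subset_closure (Or.inr (by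
    show (ζ ^ 2) ^ 2 ^ a = 1
    rw [← pow_mul, ← pow_succ', hζ.pow_eq_one]))
  induction hx using Subring.closure_induction with
  | mem x hx =>
    rcases hx with hx | hx
    · exact ⟨x, Subring.subset_closure (Or.inl hx), 0, zero_mem _, by ring⟩
    · obtain ⟨i, -, rfl⟩ := hζ.eq_pow_of_pow_eq_one (ξ := x) hx
      rcases Nat.even_or_odd' i with ⟨j, rfl | rfl⟩
      · exact ⟨_, pow_mem h2 j, 0, zero_mem _, by ring⟩
      · exact ⟨0, zero_mem _, _, pow_mem h2 j, by ring⟩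
  | zero => exact ⟨0, zero_mem _, 0, zero_mem _, by ring⟩
  | one => exact ⟨1, one_mem _, 0, zero_mem _, by ring⟩
  | add x y _ _ hx hy =>
    obtain ⟨A, hA, B, hB, rfl⟩ := hx
    obtain ⟨A', hA', B', hB', rfl⟩ := hy
    exact ⟨A + A', add_mem hA hA', B + B', add_mem hB hB', by ring⟩
  | neg x _ hx =>
    obtain ⟨A, hA, B, hB, rfl⟩ := hx
    exact ⟨-A, neg_mem hA, -B, neg_mem hB, by ring⟩
  | mul x y _ _ hx hy =>
    obtain ⟨A, hA, B, hB, rfl⟩ := hx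
    obtain ⟨A', hA', B', hB', rfl⟩ := hy
    exact ⟨A * A' + ζ ^ 2 * (B * B'), add_mem (mul_mem hA hA') (mul_mem h2 (mul_mem hB hB')), A * B' + B * A',
      add_mem (mul_mem hA hB') (mul_mem hB hA'), by ring⟩

theorem mem_Cy_of_root {n : ℕ} (hn : n ≠ 0) {z : ℂ} (hz : z ^ n = 1) : z ∈ Cy (n.factorization 2) := by
  obtain ⟨a, m, hm, rfl⟩ := Nat.exists_eq_two_pow_mul_odd hn
  have h0 : (2 ^ a * m).factorization 2 = a := by
    rw [Nat.factorization_mul (pow_ne_zero _ two_ne_zero) hm.pos.ne', Finsupp.add_apply, Nat.prime_two.factorization_pow,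
      Finsupp.single_eq_same, Nat.factorization_eq_zero_of_not_dvd hm.not_two_dvd_nat, add_zero]
  rw [h0]
  have hcop : (2 ^ a).Coprime m := Nat.Coprime.pow_left a (Nat.coprime_two_left.2 hm)
  obtain ⟨k, hk1, hk2⟩ := Nat.chineseRemainder hcop 1 0
  obtain ⟨l, hl1, hl2⟩ := Nat.chineseRemainder hcop 0 1
  have h1 : k + l ≡ 1 [MOD 2 ^ a * m] :=
    (Nat.modEq_and_modEq_iff_modEq_mul hcop).1 ⟨by simpa using hk1.add hl1, by simpa using hk2.add hl2⟩
  have h2 : z = z ^ k * z ^ l := by rw [← pow_add, pow_eq_pow_of_modEq h1 hz, pow_one]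
  obtain ⟨k', rfl⟩ := Nat.modEq_zero_iff_dvd.1 hk2
  obtain ⟨l', rfl⟩ := Nat.modEq_zero_iff_dvd.1 hl1
  rw [h2]
  refine mul_mem (Subring.subset_closure (Or.inr ?_)) (Subring.subset_closure (Or.inl ⟨m, hm, ?_⟩))
  · show (z ^ (m * k')) ^ 2 ^ a = 1
    rw [← pow_mul, show m * k' * 2 ^ a = 2 ^ a * m * k' by ring, pow_mul, hz, one_pow]
  · rw [← pow_mul, show 2 ^ a * l' * m = 2 ^ a * m * l' by ring, pow_mul, hz, one_pow]

/-- character values are cyclotomic integers -/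
theorem mem_Cy_char {G : Type*} [Group G] [Finite G] {χ : G → ℂ} (hχ : IsCharacter G χ) (g : G) :
    χ g ∈ Cy ((Nat.card G).factorization 2) := by
  obtain ⟨d, μ, -, h1, h2⟩ := GaloisBasic.isCharacter_exists_fin_pow hχ g (Nat.card_pos (α := G)).ne' pow_card_eq_one'
  have h3 := h2 1
  rw [pow_one] at h3
  rw [h3]
  exact Subring.sum_mem _ fun i _ => pow_mem (mem_Cy_of_root (Nat.card_pos (α := G)).ne' (h1 i)) 1

/-- an automorphism of the inertia group with `ζ ↦ -ζ` for a primitive root of order `2 ^ (a + 1)` -/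
theorem neg_of_pow {a : ℕ} {ζ : ℂ} (hζ : IsPrimitiveRoot ζ (2 ^ (a + 1))) : ζ ^ 2 ^ a = -1 := by
  have h1 : IsPrimitiveRoot (ζ ^ 2 ^ a) 2 := hζ.pow (pow_pos two_pos _) (pow_succ 2 a)
  exact h1.eq_neg_one_of_two_right

theorem Cy.down {d : ℂ} (h : ∀ τ, Two τ → τ d = d ∨ τ d = -d) : ∀ a : ℕ, d ∈ Cy (a + 3) → d ∈ Cy 3 := by
  intro a
  induction a with
  | zero => exact id
  | succ a ih =>
    intro hd
    obtain ⟨ζ, hζ⟩ : ∃ ζ : ℂ, IsPrimitiveRoot ζ (2 ^ (a + 3 + 1)) :=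
      ⟨_, Complex.isPrimitiveRoot_exp (2 ^ (a + 3 + 1)) (pow_ne_zero _ two_ne_zero)⟩
    obtain ⟨A, hA, B, hB, hAB⟩ := Cy.split hζ hd
    obtain ⟨ρ, h1, h2⟩ := exists_two_pow (a + 3 + 1) (k := 1 + 2 ^ (a + 2)) ⟨2 ^ (a + 1), by ring⟩
    have h3 : ∀ z : ℂ, z ^ 2 ^ (a + 3 + 1) = 1 → (ρ * ρ) z = z * z ^ 2 ^ (a + 3) := by
      intro z hz
      rw [RingAut.mul_apply, h2 z hz, map_pow, h2 z hz, ← pow_mul,
        show (1 + 2 ^ (a + 2)) * (1 + 2 ^ (a + 2)) = 1 + 2 ^ (a + 3) + 2 ^ (a + 3 + 1) * 2 ^ a by ring, pow_add, pow_mul, hz,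
        one_pow, mul_one, pow_add, pow_one]
    have h4 : ∀ z : ℂ, z ^ 2 ^ (a + 3) = 1 → (ρ * ρ) z = z := fun z hz => by
      rw [h3 z (by rw [pow_succ, pow_mul, hz, one_pow]), hz, mul_one]
    have h5 : (ρ * ρ) d = d := by
      rw [RingAut.mul_apply]
      rcases h ρ h1 with h6 | h6
      · rw [h6, h6]
      · rw [h6, map_neg, h6, neg_neg]
    rw [hAB, map_add, map_mul, Cy.fix (h1.mul h1) h4 hA, Cy.fix (h1.mul h1) h4 hB, h3 ζ hζ.pow_eq_one, neg_of_pow hζ] at h5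
    have h6 : d = A := by linear_combination hAB - h5 / 2
    exact ih (h6 ▸ hA)

theorem Cy.fix_one {τ : ℂ ≃+* ℂ} (hτ : Two τ) {x : ℂ} (hx : x ∈ Cy 1) : τ x = x :=
  Cy.fix hτ (fun z hz => by
    rcases sq_eq_one_iff.1 (show z ^ 2 = 1 by simpa using hz) with rfl | rfl
    · exact map_one _
    · rw [map_neg, map_one]) hx

/-- **The unit lemma.** -/
theorem unit_fix {M : Ideal AlgInt} (hM : IsPModular 2 M) {d : ℂ} {a : ℕ} (hd : d ∈ Cy a) (hu : ¬ MemLocalIdeal M d)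
    (h : ∀ τ, Two τ → τ d = d ∨ τ d = -d) {σ : ℂ ≃+* ℂ} (hσ : Sg σ) (hs : σ d = d) : ∀ τ, Two τ → τ d = d := by
  have h3 : d ∈ Cy 3 := Cy.down h a (Cy.mono (Nat.le_add_right a 3) hd)
  obtain ⟨ω, hω⟩ : ∃ ζ : ℂ, IsPrimitiveRoot ζ (2 ^ (2 + 1)) :=
    ⟨_, Complex.isPrimitiveRoot_exp _ (pow_ne_zero _ two_ne_zero)⟩
  have hω4 : ω ^ 4 = -1 := by simpa using neg_of_pow hω
  have hi : IsPrimitiveRoot (ω ^ 2) (2 ^ (1 + 1)) := hω.pow (by norm_num) (by norm_num)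
  have hσi : σ (ω ^ 2) = -ω ^ 2 := by
    have h1 : (ω ^ 2) ^ 2 = Complex.I ^ 2 := by rw [Complex.I_sq, ← hω4]; ring
    rcases sq_eq_sq_iff_eq_or_eq_neg.1 h1 with h2 | h2
    · rw [h2, hσ.2]
    · rw [h2, map_neg, hσ.2]
  have hω0 : ω ≠ 0 := hω.ne_zero (by norm_num)
  obtain ⟨A, hA, B, hB, hAB⟩ := Cy.split hω h3
  obtain ⟨ρ, h1, h2⟩ := exists_two_pow 3 (k := 5) ⟨2, rfl⟩
  have h4 : ∀ z : ℂ, z ^ 2 ^ 2 = 1 → ρ z = z := fun z hz => by
    rw [h2 z (by rw [pow_succ, pow_mul, hz, one_pow]), show 5 = 2 ^ 2 + 1 by norm_num, pow_succ, hz, one_mul]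
  have h5 : ρ d = A - ω * B := by
    rw [hAB, map_add, map_mul, Cy.fix h1 h4 hA, Cy.fix h1 h4 hB, h2 ω hω.pow_eq_one]
    linear_combination ω * B * hω4
  rcases h ρ h1 with h6 | h6
  · have h7 : d = A := by linear_combination hAB / 2 + (h5 - h6) / 2
    obtain ⟨A', hA', B', hB', h8⟩ := Cy.split hi (h7 ▸ hA : d ∈ Cy 2)
    have h9 : σ d = A' - ω ^ 2 * B' := by
      rw [h8, map_add, map_mul, Cy.fix_one hσ.1 hA', Cy.fix_one hσ.1 hB', hσi]
      ring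
    have h10 : d = A' := by linear_combination h8 / 2 + (h9 - hs) / 2
    exact fun τ hτ => Cy.fix_one hτ (h10 ▸ hA')
  · exfalso
    have h7 : d = ω * B := by linear_combination hAB / 2 - (h5 - h6) / 2
    obtain ⟨c, hc, e, he, h8⟩ := Cy.split hi hB
    have h9 : d = σ ω * (c - ω ^ 2 * e) := by
      rw [← hs, h7, h8, map_mul, map_add, map_mul, Cy.fix_one hσ.1 hc, Cy.fix_one hσ.1 he, hσi]
      ring
    have h10 : (σ ω) ^ 2 = (ω ^ 3) ^ 2 := by
      rw [← map_pow, hσi]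
      linear_combination (-ω ^ 2) * hω4
    have h11 : ω ^ 2 ≠ 1 := fun h => by
      have : ω ^ 4 = 1 := by rw [show 4 = 2 * 2 by norm_num, pow_mul, h, one_pow]
      rw [hω4] at this
      norm_num at this
    have h12 : ω ^ 2 ≠ -1 := fun h => by
      have : ω ^ 4 = 1 := by rw [show 4 = 2 * 2 by norm_num, pow_mul, h, neg_one_sq]
      rw [hω4] at this
      norm_num at this
    have h2c : MemLocalIdeal M (2 * c ^ 2) := memLocalIdeal_mul_right hM (by exact_mod_cast memLocalIdeal_prime hM)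
      (memLocalRing_of_isIntegral hM ((Cy.isIntegral hc).pow 2))
    refine hu ((memLocalIdeal_pow_iff hM (memLocalRing_of_isIntegral hM (Cy.isIntegral hd)) two_ne_zero).1 ?_)
    rcases sq_eq_sq_iff_eq_or_eq_neg.1 h10 with h13 | h13
    · have h14 : ω * (c - e) * (ω ^ 2 - 1) = 0 := by
        rw [h13] at h9
        linear_combination h7 - h9 + ω * h8 + ω * e * hω4
      have h15 : e = c := by
        rcases mul_eq_zero.1 h14 with h | h
        · exact (sub_eq_zero.1 ((mul_eq_zero.1 h).resolve_left hω0)).symm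
        · exact absurd (sub_eq_zero.1 h) h11
      have h16 : d ^ 2 = -(2 * c ^ 2) := by
        rw [h7, h8, h15]
        linear_combination c ^ 2 * (ω ^ 2 + 2) * hω4
      rw [h16]
      exact memLocalIdeal_neg h2c
    · have h14 : ω * (c + e) * (ω ^ 2 + 1) = 0 := by
        rw [h13] at h9
        linear_combination h9 - h7 - ω * h8 + ω * e * hω4
      have h15 : e = -c := by
        rcases mul_eq_zero.1 h14 with h | h
        · exact eq_neg_of_add_eq_zero_right ((mul_eq_zero.1 h).resolve_left hω0)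
        · exact absurd (eq_neg_of_add_eq_zero_left h) h12
      have h16 : d ^ 2 = 2 * c ^ 2 := by
        rw [h7, h8, h15]
        linear_combination c ^ 2 * (ω ^ 2 - 2) * hω4
      rw [h16]
      exact h2c

end Cfsg.Agent.HZ
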